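import Cfsg.Agent.Lib.Helper9.TCData.J1B0.S0
import Cfsg.Agent.Lib.Helper9.TCData.J1B0.S1
import Cfsg.Agent.Lib.Helper9.TCData.J1B0.S2
import Cfsg.Agent.Lib.Helper9.TCData.J1B0.S3
import Cfsg.Agent.Lib.Helper9.TCData.J1B0.S4
import Cfsg.Agent.Lib.Helper9.TCData.J1B0.S5
import Cfsg.Agent.Lib.Helper9.TCData.J1B0.S6
import Cfsg.Agent.Lib.Helper9.TCData.J1B0.S7
import Cfsg.Agent.Lib.Helper9.TCData.J1B0.S8
import Cfsg.Agent.Lib.Helper9.TCData.J1B0.S9

set_option autoImplicit false
set_option maxRecDepth 1000000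

namespace Cfsg.Agent.Helper9.TCData.J1B0
open Cfsg.Agent.Helper9.TC2


theorem hE0 : ∀ u < 1239, chkE tab 0 u = true := by
  have h0 : ∀ u < 0, (fun u => chkE tab 0 u) u = true := range_zero
  have h1 : ∀ u < 1239, (fun u => chkE tab 0 u) u = true := ext_range (a := 0) (len := 1239) h0 e0_0
  exact h1

theorem hE1 : ∀ u < 1239, chkE tab 1 u = true := by
  have h0 : ∀ u < 0, (fun u => chkE tab 1 u) u = true := range_zero
  have h1 : ∀ u < 1239, (fun u => chkE tab 1 u) u = true := ext_range (a := 0) (len := 1239) h0 e1_0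
  exact h1

theorem hE2 : ∀ u < 1239, chkE tab 2 u = true := by
  have h0 : ∀ u < 0, (fun u => chkE tab 2 u) u = true := range_zero
  have h1 : ∀ u < 1239, (fun u => chkE tab 2 u) u = true := ext_range (a := 0) (len := 1239) h0 e2_0
  exact h1

theorem hE3 : ∀ u < 1239, chkE tab 3 u = true := by
  have h0 : ∀ u < 0, (fun u => chkE tab 3 u) u = true := range_zero
  have h1 : ∀ u < 1239, (fun u => chkE tab 3 u) u = true := ext_range (a := 0) (len := 1239) h0 e3_0
  exact h1

theorem hL : ∀ u < 1239, chkL tab u = true := by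
  have h0 : ∀ u < 0, (fun u => chkL tab u) u = true := range_zero
  have h1 : ∀ u < 1239, (fun u => chkL tab u) u = true := ext_range (a := 0) (len := 1239) h0 l_0
  exact h1

theorem hF : ∀ u < 266, chkFin tab u = true := by
  have h0 : ∀ u < 0, (fun u => chkFin tab u) u = true := range_zero
  have h1 : ∀ u < 266, (fun u => chkFin tab u) u = true := ext_range (a := 0) (len := 266) h0 f_0
  exact h1

theorem hC : ∀ u < 1239, chkCls tab u = true := by
  have h0 : ∀ u < 0, (fun u => chkCls tab u) u = true := range_zero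
  have h1 : ∀ u < 1239, (fun u => chkCls tab u) u = true := ext_range (a := 0) (len := 1239) h0 c_0
  exact h1

theorem hM1 : ∀ u < 266, chkM1 tab u = true := by
  have h0 : ∀ u < 0, (fun u => chkM1 tab u) u = true := range_zero
  have h1 : ∀ u < 266, (fun u => chkM1 tab u) u = true := ext_range (a := 0) (len := 266) h0 m1_0
  exact h1

theorem hM2 : ∀ u < 266, chkFix tab mwords u = true := by
  have h0 : ∀ u < 0, (fun u => chkFix tab mwords u) u = true := range_zero
  have h1 : ∀ u < 85, (fun u => chkFix tab mwords u) u = true := ext_range (a := 0) (len := 85) h0 m2_0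
  have h2 : ∀ u < 170, (fun u => chkFix tab mwords u) u = true := ext_range (a := 85) (len := 85) h1 m2_1
  have h3 : ∀ u < 255, (fun u => chkFix tab mwords u) u = true := ext_range (a := 170) (len := 85) h2 m2_2
  have h4 : ∀ u < 266, (fun u => chkFix tab mwords u) u = true := ext_range (a := 255) (len := 11) h3 m2_3
  exact h4

theorem hO1 : ∀ u < 266, chkO1 tab orb u = true := by
  have h0 : ∀ u < 0, (fun u => chkO1 tab orb u) u = true := range_zero
  have h1 : ∀ u < 266, (fun u => chkO1 tab orb u) u = true := ext_range (a := 0) (len := 266) h0 o1_0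
  exact h1

theorem hO2 : ∀ u < 266, chkO2 tab orb u = true := by
  have h0 : ∀ u < 0, (fun u => chkO2 tab orb u) u = true := range_zero
  have h1 : ∀ u < 266, (fun u => chkO2 tab orb u) u = true := ext_range (a := 0) (len := 266) h0 o2_0
  exact h1

theorem hOL : ∀ u < 266, Nat.blt (orb.lab u) 5 = true := by
  have h0 : ∀ u < 0, (fun u => Nat.blt (orb.lab u) 5) u = true := range_zero
  have h1 : ∀ u < 266, (fun u => Nat.blt (orb.lab u) 5) u = true := ext_range (a := 0) (len := 266) h0 ol_0
  exact h1

theorem hSlp : ∀ u < 266, chkSlp tab slp u = true := by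
  have h0 : ∀ u < 0, (fun u => chkSlp tab slp u) u = true := range_zero
  have h1 : ∀ u < 18, (fun u => chkSlp tab slp u) u = true := ext_range (a := 0) (len := 18) h0 sl_0
  have h2 : ∀ u < 36, (fun u => chkSlp tab slp u) u = true := ext_range (a := 18) (len := 18) h1 sl_1
  have h3 : ∀ u < 54, (fun u => chkSlp tab slp u) u = true := ext_range (a := 36) (len := 18) h2 sl_2
  have h4 : ∀ u < 72, (fun u => chkSlp tab slp u) u = true := ext_range (a := 54) (len := 18) h3 sl_3
  have h5 : ∀ u < 90, (fun u => chkSlp tab slp u) u = true := ext_range (a := 72) (len := 18) h4 sl_4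
  have h6 : ∀ u < 108, (fun u => chkSlp tab slp u) u = true := ext_range (a := 90) (len := 18) h5 sl_5
  have h7 : ∀ u < 126, (fun u => chkSlp tab slp u) u = true := ext_range (a := 108) (len := 18) h6 sl_6
  have h8 : ∀ u < 144, (fun u => chkSlp tab slp u) u = true := ext_range (a := 126) (len := 18) h7 sl_7
  have h9 : ∀ u < 162, (fun u => chkSlp tab slp u) u = true := ext_range (a := 144) (len := 18) h8 sl_8
  have h10 : ∀ u < 180, (fun u => chkSlp tab slp u) u = true := ext_range (a := 162) (len := 18) h9 sl_9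
  have h11 : ∀ u < 198, (fun u => chkSlp tab slp u) u = true := ext_range (a := 180) (len := 18) h10 sl_10
  have h12 : ∀ u < 216, (fun u => chkSlp tab slp u) u = true := ext_range (a := 198) (len := 18) h11 sl_11
  have h13 : ∀ u < 234, (fun u => chkSlp tab slp u) u = true := ext_range (a := 216) (len := 18) h12 sl_12
  have h14 : ∀ u < 252, (fun u => chkSlp tab slp u) u = true := ext_range (a := 234) (len := 18) h13 sl_13
  have h15 : ∀ u < 266, (fun u => chkSlp tab slp u) u = true := ext_range (a := 252) (len := 14) h14 sl_14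
  exact h15

theorem hT0 : ∀ u < 266, chkTree tab (lidx 0) (lpar 0) (lgi 0) 0 [0, 2, 3, 138, 139, 134, 128, 129] u = true := by
  have h0 : ∀ u < 0, (fun u => chkTree tab (lidx 0) (lpar 0) (lgi 0) 0 [0, 2, 3, 138, 139, 134, 128, 129] u) u = true := range_zero
  have h1 : ∀ u < 266, (fun u => chkTree tab (lidx 0) (lpar 0) (lgi 0) 0 [0, 2, 3, 138, 139, 134, 128, 129] u) u = true := ext_range (a := 0) (len := 266) h0 tr0x_0
  exact h1

theorem hT1 : ∀ u < 266, chkTree tab (lidx 1) (lpar 1) (lgi 1) 2 [138, 139, 134, 128, 129] u = true := by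
  have h0 : ∀ u < 0, (fun u => chkTree tab (lidx 1) (lpar 1) (lgi 1) 2 [138, 139, 134, 128, 129] u) u = true := range_zero
  have h1 : ∀ u < 266, (fun u => chkTree tab (lidx 1) (lpar 1) (lgi 1) 2 [138, 139, 134, 128, 129] u) u = true := ext_range (a := 0) (len := 266) h0 tr1x_0
  exact h1

theorem hT2 : ∀ u < 266, chkTree tab (lidx 2) (lpar 2) (lgi 2) 3 [138, 139, 134] u = true := by
  have h0 : ∀ u < 0, (fun u => chkTree tab (lidx 2) (lpar 2) (lgi 2) 3 [138, 139, 134] u) u = true := range_zero
  have h1 : ∀ u < 266, (fun u => chkTree tab (lidx 2) (lpar 2) (lgi 2) 3 [138, 139, 134] u) u = true := ext_range (a := 0) (len := 266) h0 tr2x_0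
  exact h1

theorem hX : ∀ u < 266, Nat.beq ((runT tab xw)^[7] u) u = true := by
  have h0 : ∀ u < 0, (fun u => Nat.beq ((runT tab xw)^[7] u) u) u = true := range_zero
  have h1 : ∀ u < 266, (fun u => Nat.beq ((runT tab xw)^[7] u) u) u = true := ext_range (a := 0) (len := 266) h0 x_0
  exact h1

theorem hE : ∀ c < 4, ∀ u < 1239, chkE tab c u = true := by
  intro c hc
  interval_cases c
  · exact hE0
  · exact hE1
  · exact hE2
  · exact hE3

end Cfsg.Agent.Helper9.TCData.J1B0
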