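import Cfsg.Agent.Lib.Helper9.TC2Cox
import Cfsg.Agent.Lib.Helper9.TC2Aux
import Cfsg.Agent.Lib.Helper9.TC2BSGS
import Cfsg.Agent.Lib.Helper9.TC2Pack
import Cfsg.Agent.Lib.Helper9.TCData.J1B0.P0

set_option autoImplicit false
set_option maxRecDepth 100000

namespace Cfsg.Agent.Helper9.TCData.J1B0
open Cfsg.Agent.Helper9.TC2
/-- The rotated relators. -/
noncomputable def rotT : WT := (WT.node 8 (WT.node 4 (WT.node 2 (WT.node 1 (WT.leaf [0, 0]) (WT.leaf [0, 2, 0, 2, 0, 2, 0, 2, 0, 2, 0, 2, 0, 2])) (WT.node 3 (WT.leaf [0, 3, 0, 2, 0, 3, 0, 2, 0, 3, 0, 2, 0, 3, 0, 2, 0, 3, 0, 2, 0, 2, 0, 3, 0, 3, 0, 2, 0, 2, 0, 3, 0, 2, 0, 3, 0, 2, 0, 3, 0, 2, 0, 3, 0, 2, 0, 3, 0, 2, 0, 3, 0, 2, 0, 2, 0, 3, 0, 3, 0, 2, 0, 2, 0, 3, 0, 2]) (WT.leaf [0, 3, 0, 2, 0, 2, 0, 3, 0, 3, 0, 2, 0,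 2, 0, 3, 0, 2, 0, 3, 0, 2, 0, 3, 0, 2, 0, 3, 0, 2, 0, 3, 0, 2, 0, 3, 0, 2, 0, 2, 0, 3, 0, 3, 0, 2, 0, 2, 0, 3, 0, 2, 0, 3, 0, 2, 0, 3, 0, 2, 0, 3, 0, 2, 0, 3, 0, 2]))) (WT.node 6 (WT.node 5 (WT.leaf [0, 2, 0, 2, 0, 3, 0, 2, 0, 3, 0, 2, 0, 3, 0, 2, 0, 3, 0, 2, 0, 3, 0, 2, 0, 3, 0, 2, 0, 2, 0, 3, 0, 3, 0, 2, 0, 2, 0, 3, 0, 2, 0, 3, 0, 2, 0, 3, 0, 2, 0, 3, 0, 2, 0, 3, 0, 2, 0, 3, 0, 2, 0, 2, 0, 3, 0, 3]) (WT.leaf [0, 2, 0, 3, 0, 2, 0, 2, 0, 3, 0, 3, 0, 2, 0, 2, 0, 3, 0, 2, 0, 3, 0, 2, 0, 3, 0, 2, 0, 3, 0, 2, 0, 3, 0, 2, 0, 3, 0, 2, 0, 2, 0, 3, 0, 3, 0, 2, 0, 2, 0, 3, 0, 2, 0, 3, 0, 2, 0, 3, 0, 2, 0, 3, 0, 2, 0, 3])) (WT.node 7 (WT.leaf [2, 2, 2]) (WT.leaf [2, 0, 2, 0, 2, 0, 2, 0, 2, 0, 2, 0, 2, 0])))) (WT.node 12 (WT.node 10 (WT.node 9 (WT.leaf [3, 0, 2, 0, 3, 0, 2,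 0, 2, 0, 3, 0, 2, 0, 3, 0, 2, 0, 3, 0, 2, 0, 2, 0, 3, 0, 2, 0, 3, 0, 2, 0, 3, 0, 2, 0, 2, 0, 3, 0, 2, 0, 3, 0, 2, 0, 3, 0, 2, 0, 2, 0, 3, 0, 2, 0, 3, 0, 2, 0, 3, 0, 2, 0, 2, 0, 3, 0, 2, 0]) (WT.leaf [3, 0, 2, 0, 3, 0, 2, 0, 3, 0, 2, 0, 3, 0, 2, 0, 3, 0, 2, 0, 2, 0, 3, 0, 3, 0, 2, 0, 2, 0, 3, 0, 2, 0, 3, 0, 2, 0, 3, 0, 2, 0, 3, 0, 2, 0, 3, 0, 2, 0, 3, 0, 2, 0, 2, 0, 3, 0, 3, 0, 2, 0, 2, 0, 3, 0, 2, 0])) (WT.node 11 (WT.leaf [3, 0, 2, 0, 3, 0, 2, 0, 3, 0, 2, 0, 2, 0, 3, 0, 3, 0, 2, 0, 2, 0, 3, 0, 2, 0, 3, 0, 2, 0, 3, 0, 2, 0, 3, 0, 2, 0, 3, 0, 2, 0, 3, 0, 2, 0, 2, 0, 3, 0, 3, 0, 2, 0, 2, 0, 3, 0, 2, 0, 3, 0, 2, 0, 3, 0, 2, 0]) (WT.leaf [0, 2, 0, 3, 0, 2, 0, 3, 0, 2, 0, 3, 0, 2, 0, 2, 0, 3, 0, 3, 0, 2, 0, 2, 0, 3, 0, 2, 0, 3, 0, 2, 0, 3, 0, 2, 0, 3, 0, 2, 0, 3, 0, 2,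 0, 3, 0, 2, 0, 2, 0, 3, 0, 3, 0, 2, 0, 2, 0, 3, 0, 2, 0, 3, 0, 2, 0, 3]))) (WT.node 14 (WT.node 13 (WT.leaf [0, 3, 0, 2, 0, 2, 0, 3, 0, 2, 0, 3, 0, 2, 0, 3, 0, 2, 0, 2, 0, 3, 0, 2, 0, 3, 0, 2, 0, 3, 0, 2, 0, 2, 0, 3, 0, 2, 0, 3, 0, 2, 0, 3, 0, 2, 0, 2, 0, 3, 0, 2, 0, 3, 0, 2, 0, 3, 0, 2, 0, 2, 0, 3, 0, 2, 0, 3, 0, 2]) (WT.leaf [3, 0, 2, 0, 3, 0, 2, 0, 3, 0, 2, 0, 2, 0, 3, 0, 2, 0, 3, 0, 2, 0, 3, 0, 2, 0, 2, 0, 3, 0, 2, 0, 3, 0, 2, 0, 3, 0, 2, 0, 2, 0, 3, 0, 2, 0, 3, 0, 2, 0, 3, 0, 2, 0, 2, 0, 3, 0, 2, 0, 3, 0, 2, 0, 3, 0, 2, 0, 2, 0])) (WT.node 15 (WT.leaf [2, 0, 3, 0, 2, 0, 3, 0, 2, 0, 2, 0, 3, 0, 2, 0, 3, 0, 2, 0, 3, 0, 2, 0, 2, 0, 3, 0, 2, 0, 3, 0, 2, 0, 3, 0, 2, 0, 2, 0, 3, 0, 2, 0, 3, 0, 2, 0, 3, 0, 2, 0, 2, 0, 3, 0, 2, 0, 3, 0, 2, 0, 3, 0, 2, 0, 2, 0, 3, 0])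 (WT.leaf [2, 0, 2, 0, 3, 0, 2, 0, 3, 0, 2, 0, 3, 0, 2, 0, 3, 0, 2, 0, 3, 0, 2, 0, 3, 0, 2, 0, 2, 0, 3, 0, 3, 0, 2, 0, 2, 0, 3, 0, 2, 0, 3, 0, 2, 0, 3, 0, 2, 0, 3, 0, 2, 0, 3, 0, 2, 0, 3, 0, 2, 0, 2, 0, 3, 0, 3, 0])))))

/-- The sources of the rotated relators: relator and rotation. -/
def rotSrc : List (ℕ × ℕ) := [(0, 1), (2, 2), (4, 8), (4, 24), (4, 0), (4, 22), (1, 1), (2, 13), (3, 9), (4, 9), (4, 17), (4, 48), (3, 40), (3, 61), (3, 49), (4, 35)]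

/-- The relators, as words of columns. -/
def relWords : List (List ℕ) := [[0, 0], [2, 2, 2], [0, 2, 0, 2, 0, 2, 0, 2, 0, 2, 0, 2, 0, 2], [0, 2, 0, 2, 0, 3, 0, 2, 0, 3, 0, 2, 0, 3, 0, 2, 0, 2, 0, 3, 0, 2, 0, 3, 0, 2, 0, 3, 0, 2, 0, 2, 0, 3, 0, 2, 0, 3, 0, 2, 0, 3, 0, 2, 0, 2, 0, 3, 0, 2, 0, 3, 0, 2, 0, 3, 0, 2, 0, 2, 0, 3, 0, 2, 0, 3, 0, 2, 0, 3], [0, 2, 0, 2, 0, 3, 0, 2, 0, 3, 0, 2, 0, 3, 0, 2, 0, 3, 0, 2, 0, 3, 0, 2, 0, 3, 0, 2, 0, 2, 0, 3, 0, 3, 0, 2, 0, 2, 0, 3, 0, 2, 0, 3, 0, 2, 0, 3, 0, 2, 0, 3, 0, 2, 0, 3, 0, 2, 0, 3, 0, 2, 0, 2, 0, 3, 0, 3]]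

/-- The words checked on the permutation model. -/
def mwords : List (List ℕ) := [[0, 0], [2, 2, 2], [0, 2, 0, 2, 0, 2, 0, 2, 0, 2, 0, 2, 0, 2], [0, 2, 0, 2, 0, 3, 0, 2, 0, 3, 0, 2, 0, 3, 0, 2, 0, 2, 0, 3, 0, 2, 0, 3, 0, 2, 0, 3, 0, 2, 0, 2, 0, 3, 0, 2, 0, 3, 0, 2, 0, 3, 0, 2, 0, 2, 0, 3, 0, 2, 0, 3, 0, 2, 0, 3, 0, 2, 0, 2, 0, 3, 0, 2, 0, 3, 0, 2, 0, 3], [0, 2, 0, 2, 0, 3, 0, 2, 0, 3, 0, 2, 0, 3, 0, 2, 0, 3, 0, 2, 0, 3, 0, 2, 0, 3, 0, 2, 0, 2, 0, 3, 0, 3, 0, 2, 0, 2, 0, 3, 0, 2, 0, 3, 0, 2, 0, 3, 0, 2, 0, 3, 0, 2, 0, 3, 0, 2, 0, 3, 0, 2, 0, 2, 0, 3, 0, 3]]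

/-- The table. -/
noncomputable def tab : Tab where
  k := 4
  inv := fun c => (bif Nat.beq c 0 then 1 else (bif Nat.beq c 1 then 0 else (bif Nat.beq c 2 then 3 else (bif Nat.beq c 3 then 2 else c))))
  N := 1239
  n := 266
  Tmax := 5518
  wn := 11
  mn := 0x7ff
  subs := [[3, 0, 2], [2, 0, 3, 0, 2, 0, 3, 0, 2, 0, 3, 0, 2, 0, 2, 0, 3, 0]]
  rot := fun i => rotT.getF i
  ent := fun c i => bget2 entT_0 2 9 24 0xffffff 511 c i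
  cer := fun c i => bget2 cerT_0 2 9 18 0x3ffff 511 c i
  tau := fun c i => bget2 tauT_0 1 10 9 0x1ff 1023 c i
  lk := fun i => bget lkT_0 9 24 0xffffff 511 i
  lc := fun i => bget lcT_0 9 26 0x3ffffff 511 i
  pn := fun i => bget pnT_0 10 13 0x1fff 1023 i
  cls := fun i => bget clsT_0 10 9 0x1ff 1023 i
  rep := fun i => bget repT_0 10 10 0x3ff 1023 i

/-- The straight line program of the further columns. -/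
def slp : List (ℕ × List ℕ) := [(0, [3, 0]), (0, [0, 4]), (0, [2, 3]), (0, [5, 6]), (0, [1, 0]), (0, [7, 8]), (0, [0, 0]), (0, [9, 10]), (0, [0, 1]), (0, [11, 12]), (0, [2, 8]), (0, [13, 14]), (0, [10, 0]), (0, [15, 16]), (0, [4, 14]), (0, [17, 18]), (0, [8, 1]), (0, [19, 20]), (0, [6, 20]), (0, [21, 22]), (0, [14, 18]), (0, [23, 24]), (0, [12, 8]), (0, [25, 26]), (0, [10, 16]), (0, [27, 28]), (0, [10, 12]), (0, [29, 30]), (0, [6, 1]), (0, [31, 32]), (0, [3, 24]), (0, [33, 34]), (0, [30, 28]), (0, [35, 36]), (0, [36, 34]), (0, [37, 38]), (0, [38, 22]), (0, [39, 40]), (0, [18, 26]), (0, [41, 42]), (0, [42, 40]), (0, [43, 44]), (0, [32, 22]), (0, [45, 46]), (0, [46, 12]), (0, [47, 48]), (0, [26, 48]), (0, [49, 50]), (0, [36, 44]), (0, [51, 52]), (0, [1, 52]), (0, [53,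 54]), (0, [24, 36]), (0, [55, 56]), (0, [50, 28]), (0, [57, 58]), (0, [36, 50]), (0, [59, 60]), (0, [50, 60]), (0, [61, 62]), (0, [54, 32]), (0, [63, 64]), (0, [62, 26]), (0, [65, 66]), (0, [40, 62]), (0, [67, 68]), (0, [54, 64]), (0, [69, 70]), (0, [50, 54]), (0, [71, 72]), (0, [58, 68]), (0, [73, 74]), (0, [62, 72]), (0, [75, 76]), (0, [68, 52]), (0, [77, 78]), (0, [52, 66]), (0, [79, 80]), (0, [56, 74]), (0, [81, 82]), (0, [56, 54]), (0, [83, 84]), (0, [78, 54]), (0, [85, 86]), (0, [66, 82]), (0, [87, 88]), (0, [70, 62]), (0, [89, 90]), (0, [80, 86]), (0, [91, 92]), (0, [86, 70]), (0, [93, 94]), (0, [92, 70]), (0, [95, 96]), (0, [70, 96]), (0, [97, 98]), (0, [88, 90]), (0, [99, 100]), (0, [96, 12]), (0, [101, 102]), (0, [98, 90]), (0, [103, 104]), (0, [76, 100]),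 (0, [105, 106]), (0, [104, 54]), (0, [107, 108]), (0, [106, 94]), (0, [109, 110]), (0, [96, 104]), (0, [111, 112]), (0, [108, 84]), (0, [113, 114]), (0, [76, 94]), (0, [115, 116]), (0, [96, 102]), (0, [117, 118]), (0, [76, 90]), (0, [119, 120]), (0, [66, 116]), (0, [121, 122]), (0, [120, 96]), (0, [123, 124]), (0, [84, 114]), (0, [125, 126]), (0, [2, 1, 2, 127]), (1, [128]), (0, [1, 3, 1, 3, 1, 2, 1, 3, 1, 3, 1, 2, 1, 2, 1, 3, 1, 125]), (1, [130]), (0, [110, 124]), (0, [127, 132]), (0, [129, 131, 129, 131, 128, 131, 129, 129, 129, 1, 3, 129, 1, 2, 133]), (1, [134]), (0, [122, 126]), (0, [133, 136]), (0, [128, 135, 1, 3, 131, 137]), (1, [138])]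

/-- The levels: base point, generating columns, size of the orbit. -/
def levs : List (ℕ × List ℕ × ℕ) := [(0, [0, 2, 3, 138, 139, 134, 128, 129], 266), (2, [138, 139, 134, 128, 129], 110), (3, [138, 139, 134], 6)]

/-- A record of the trees of the orbits. -/
noncomputable def lidx : ℕ → ℕ → ℕ := fun c i => bget2 lidxT_0 1 10 9 0x1ff 1023 c i

/-- A record of the trees of the orbits. -/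
noncomputable def lpar : ℕ → ℕ → ℕ := fun c i => bget2 lparT_0 1 10 9 0x1ff 1023 c i

/-- A record of the trees of the orbits. -/
noncomputable def lgi : ℕ → ℕ → ℕ := fun c i => bget2 lgiT_0 1 12 3 0x7 4095 c i

/-- The word of the element of prime power order. -/
def xw : List ℕ := [0, 2]


/-- The orbit certificate. -/
noncomputable def orb : OrbData where
  lab := fun i => bget labT_0 12 3 0x7 4095 i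
  dep := fun i => bget depT_0 12 4 0xf 4095 i
  oj := fun i => bget ojT_0 14 1 0x1 16383 i
  root := fun i => bget rootT_0 12 4 0xf 4095 i

end Cfsg.Agent.Helper9.TCData.J1B0
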